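import Mathlib
/-!
Properties local for a topology: largest opens; dominance.
-/
universe u
open AlgebraicGeometry CategoryTheory CategoryTheory.Limits
set_option backward.isDefEq.respectTransparency false
set_option linter.style.haveILetI false

namespace Groth.Agent.DescMisc

variable {Q : MorphismProperty Scheme.{u}}

theorem exists_mem {X : Scheme.{u}} {R : Presieve X} (hR : R ∈ Scheme.precoverage Q X) (x : X) :
    ∃ (U : Scheme.{u}) (g : U ⟶ X), R g ∧ Q g ∧ x ∈ Set.range g := by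
  obtain ⟨𝒰, rfl⟩ := Precoverage.mem_iff_exists_zeroHypercover.mp hR
  obtain ⟨y, hy⟩ := Scheme.Cover.covers 𝒰 x
  exact ⟨_, _, Presieve.ofArrows.mk _, Scheme.Cover.map_prop 𝒰 _, y, hy⟩

theorem prop_of_mem {X : Scheme.{u}} {R : Presieve X} (hR : R ∈ Scheme.precoverage Q X)
    {U : Scheme.{u}} {g : U ⟶ X} (hg : R g) : Q g := by
  obtain ⟨𝒰, rfl⟩ := Precoverage.mem_iff_exists_zeroHypercover.mp hR
  obtain ⟨i⟩ := hg
  exact Scheme.Cover.map_prop 𝒰 i

theorem isDominant_pullback_snd {X Y U : Scheme.{u}} (f : X ⟶ Y) (g : U ⟶ Y) (hg : IsOpenMap g)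
    [IsDominant f] : IsDominant (pullback.snd f g) := by
  constructor
  rw [DenseRange, Scheme.Pullback.range_snd]
  exact f.denseRange.preimage hg

theorem isDominant_of_forall {X Y : Scheme.{u}} (f : X ⟶ Y)
    (h : ∀ y : Y, ∃ (U : Scheme.{u}) (g : U ⟶ Y), y ∈ Set.range g ∧ IsDominant (pullback.snd f g)) :
    IsDominant f := by
  constructor
  intro y
  obtain ⟨U, g, ⟨u, rfl⟩, hd⟩ := h y
  have h1 : u ∈ closure (g ⁻¹' Set.range f) := by
    rw [← Scheme.Pullback.range_snd]; exact hd.denseRange u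
  exact g.continuous.closure_preimage_subset _ h1

theorem isLocalAtTarget_dominant (hopen : ∀ ⦃U Y : Scheme.{u}⦄ (g : U ⟶ Y), Q g → IsOpenMap g) :
    MorphismProperty.IsLocalAtTarget (@IsDominant : MorphismProperty Scheme.{u}) (Scheme.precoverage Q) where
  pullbackSnd {X Y f R U g} hR hg hf _ := by
    haveI := hf
    exact isDominant_pullback_snd f g (hopen g (prop_of_mem hR hg))
  of_forall_pullbackSnd {X Y f R} hR h := by
    refine isDominant_of_forall f fun y => ?_
    obtain ⟨U, g, hg, -, hy⟩ := exists_mem hR y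
    exact ⟨U, g, hy, h hg⟩

/-- The largest open on which a source-local property holds. -/
theorem exists_largest_source (P : MorphismProperty Scheme.{u}) [P.IsLocalAtSource (Scheme.precoverage Q)]
    [Q.IsStableUnderBaseChange] [Q.IsStableUnderComposition]
    (himm : ∀ ⦃U Y : Scheme.{u}⦄ (g : U ⟶ Y), IsOpenImmersion g → Q g)
    (hopen : ∀ ⦃U Y : Scheme.{u}⦄ (g : U ⟶ Y), Q g → IsOpenMap g) {X Y : Scheme.{u}} (f : X ⟶ Y) :
    ∃ W : X.Opens, (P (W.ι ≫ f) ∧ ∀ W' : X.Opens, P (W'.ι ≫ f) → W' ≤ W) ∧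
      ∀ (X' : Scheme.{u}) (g : X' ⟶ X), Q g → ∀ (V : X'.Opens),
        (P (V.ι ≫ g ≫ f) ∧ ∀ V' : X'.Opens, P (V'.ι ≫ g ≫ f) → V' ≤ V) → V = g ⁻¹ᵁ W := by
  let W : X.Opens := ⨆ W' : {W' : X.Opens // P (W'.ι ≫ f)}, W'.1
  have hmax : ∀ W' : X.Opens, P (W'.ι ≫ f) → W' ≤ W := fun W' h =>
    le_iSup (fun W'' : {W' : X.Opens // P (W'.ι ≫ f)} => W''.1) ⟨W', h⟩
  have hW : P (W.ι ≫ f) := by
    refine MorphismProperty.IsLocalAtSource.of_forall_comp (K := Scheme.precoverage Q)
      (R := Presieve.ofArrows (fun W' : {W' : X.Opens // P (W'.ι ≫ f)} => (W'.1 : Scheme.{u}))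
        (fun W' => X.homOfLE (hmax W'.1 W'.2))) ?_ ?_
    · rw [Scheme.ofArrows_mem_precoverage_iff]
      refine ⟨fun x => ?_, fun W' => himm _ inferInstance⟩
      obtain ⟨W', hx⟩ := TopologicalSpace.Opens.mem_iSup.1 x.2
      exact ⟨W', ⟨x.1, hx⟩, Subtype.ext (by simp)⟩
    · rintro U g ⟨W'⟩
      rw [Scheme.homOfLE_ι_assoc]
      exact W'.2
  refine ⟨W, ⟨hW, hmax⟩, fun X' g hg V ⟨hV, hVmax⟩ => le_antisymm ?_ ?_⟩
  · let W₀ : X.Opens := ⟨g '' V, hopen g hg _ V.2⟩
    have hle : V ≤ g ⁻¹ᵁ W₀ := fun v hv => ⟨v, hv, rfl⟩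
    let e : (V : Scheme.{u}) ⟶ W₀ := X'.homOfLE hle ≫ g ∣_ W₀
    have he : Q e := Q.comp_mem _ _ (himm _ inferInstance)
      (MorphismProperty.of_isPullback (isPullback_morphismRestrict g W₀).flip hg)
    have h0 : P (W₀.ι ≫ f) := by
      refine MorphismProperty.IsLocalAtSource.of_forall_comp (K := Scheme.precoverage Q)
        (R := Presieve.singleton e) ?_ ?_
      · rw [Scheme.singleton_mem_precoverage_iff]
        refine ⟨?_, he⟩
        rintro ⟨w, v, hv, hvw⟩
        refine ⟨⟨v, hv⟩, ?_⟩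
        apply W₀.ι.injective
        rw [← Scheme.Hom.comp_apply]
        simp only [e, Category.assoc, morphismRestrict_ι, Scheme.homOfLE_ι_assoc]
        exact hvw
      · rintro U u ⟨⟩
        simp only [e, Category.assoc, morphismRestrict_ι_assoc, Scheme.homOfLE_ι_assoc]
        exact hV
    exact fun v hv => hmax W₀ h0 ⟨v, hv, rfl⟩
  · refine hVmax _ ?_
    have hr : Q (g ∣_ W) := MorphismProperty.of_isPullback (isPullback_morphismRestrict g W).flip hg
    let Z : Bool → Scheme.{u} := fun b => if b then (g ⁻¹ᵁ W : Scheme.{u}) else W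
    let m : ∀ b, Z b ⟶ W := fun b => match b with
      | true => g ∣_ W
      | false => 𝟙 _
    have hR : Presieve.ofArrows Z m ∈ Scheme.precoverage Q W := by
      rw [Scheme.ofArrows_mem_precoverage_iff]
      refine ⟨fun x => ⟨false, x, rfl⟩, fun b => ?_⟩
      cases b
      · exact himm _ (inferInstanceAs (IsOpenImmersion (𝟙 (W : Scheme.{u}))))
      · exact hr
    have h := MorphismProperty.IsLocalAtSource.comp (P := P) hR (g ∣_ W) (Presieve.ofArrows.mk true) hW
    rwa [morphismRestrict_ι_assoc] at h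

theorem of_isPullback_snd {P : MorphismProperty Scheme.{u}} [P.RespectsIso] {X Y U Z : Scheme.{u}}
    {f : X ⟶ Y} {g : U ⟶ Y} {a : Z ⟶ X} {b : Z ⟶ U} (h : IsPullback a b f g) (hb : P b) :
    P (pullback.snd f g) := by
  rw [← h.isoPullback_inv_snd]
  exact (P.cancel_left_of_respectsIso _ _).2 hb

theorem of_pullback_snd {P : MorphismProperty Scheme.{u}} [P.RespectsIso] {X Y U Z : Scheme.{u}}
    {f : X ⟶ Y} {g : U ⟶ Y} {a : Z ⟶ X} {b : Z ⟶ U} (h : IsPullback a b f g)
    (hb : P (pullback.snd f g)) : P b := by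
  rw [← h.isoPullback_hom_snd]
  exact (P.cancel_left_of_respectsIso _ _).2 hb

/-- The largest open over which a target-local property holds. -/
theorem exists_largest_target (P : MorphismProperty Scheme.{u}) [P.IsLocalAtTarget (Scheme.precoverage Q)]
    [Q.IsStableUnderBaseChange] [Q.IsStableUnderComposition]
    (himm : ∀ ⦃U Y : Scheme.{u}⦄ (g : U ⟶ Y), IsOpenImmersion g → Q g)
    (hopen : ∀ ⦃U Y : Scheme.{u}⦄ (g : U ⟶ Y), Q g → IsOpenMap g) {X Y : Scheme.{u}} (f : X ⟶ Y) :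
    ∃ W : Y.Opens, P (f ∣_ W) ∧ (∀ W₀ : Y.Opens, P (f ∣_ W₀) → W₀ ≤ W) ∧
      (∀ (Y' : Scheme.{u}) (g : Y' ⟶ Y), Q g → P (pullback.snd f g) → Set.range g ⊆ (W : Set Y)) ∧
      (∀ (Y' : Scheme.{u}) (g : Y' ⟶ Y), Q g → ∀ W' : Y'.Opens, P (pullback.snd f g ∣_ W') →
        (∀ W₀ : Y'.Opens, P (pullback.snd f g ∣_ W₀) → W₀ ≤ W') → W' = g ⁻¹ᵁ W) := by
  let W : Y.Opens := ⨆ W' : {W' : Y.Opens // P (f ∣_ W')}, W'.1
  have hmax : ∀ W' : Y.Opens, P (f ∣_ W') → W' ≤ W := fun W' h =>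
    le_iSup (fun W'' : {W' : Y.Opens // P (f ∣_ W')} => W''.1) ⟨W', h⟩
  have hW : P (f ∣_ W) := by
    refine MorphismProperty.IsLocalAtTarget.of_forall_pullbackSnd (K := Scheme.precoverage Q)
      (R := Presieve.ofArrows (fun W' : {W' : Y.Opens // P (f ∣_ W')} => (W'.1 : Scheme.{u}))
        (fun W' => Y.homOfLE (hmax W'.1 W'.2))) ?_ ?_
    · rw [Scheme.ofArrows_mem_precoverage_iff]
      refine ⟨fun x => ?_, fun W' => himm _ inferInstance⟩
      obtain ⟨W', hx⟩ := TopologicalSpace.Opens.mem_iSup.1 x.2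
      exact ⟨W', ⟨x.1, hx⟩, Subtype.ext (by simp)⟩
    · rintro U g _ ⟨W'⟩
      refine of_isPullback_snd (a := X.homOfLE (Scheme.Hom.preimage_mono f (hmax W'.1 W'.2))) ?_ W'.2
      refine IsPullback.of_right ?_ (by simp [← cancel_mono W.ι]) (isPullback_morphismRestrict f W).flip
      simpa using (isPullback_morphismRestrict f W'.1).flip
  have key : ∀ (Y' : Scheme.{u}) (g : Y' ⟶ Y), Q g → P (pullback.snd f g) → Set.range g ⊆ (W : Set Y) := by
    intro Y' g hg hP
    let W₀ : Y.Opens := ⟨Set.range g, Set.image_univ ▸ hopen g hg _ isOpen_univ⟩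
    have hle : (⊤ : Y'.Opens) ≤ g ⁻¹ᵁ W₀ := fun v _ => ⟨v, rfl⟩
    let e : Y' ⟶ W₀ := Y'.topIso.inv ≫ Y'.homOfLE hle ≫ g ∣_ W₀
    have hee : e ≫ W₀.ι = g := by
      simp only [e, Category.assoc, morphismRestrict_ι, Scheme.homOfLE_ι_assoc]
      rw [← Category.assoc, ← Scheme.topIso_hom, Iso.inv_hom_id, Category.id_comp]
    have he : Q e := Q.comp_mem _ _ (himm _ inferInstance) (Q.comp_mem _ _ (himm _ inferInstance)
      (MorphismProperty.of_isPullback (isPullback_morphismRestrict g W₀).flip hg))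
    have h0 : P (f ∣_ W₀) := by
      refine MorphismProperty.IsLocalAtTarget.of_forall_pullbackSnd (K := Scheme.precoverage Q)
        (R := Presieve.singleton e) ?_ ?_
      · rw [Scheme.singleton_mem_precoverage_iff]
        refine ⟨?_, he⟩
        rintro ⟨w, v, hvw⟩
        refine ⟨v, W₀.ι.injective ?_⟩
        rw [← Scheme.Hom.comp_apply, hee]
        exact hvw
      · rintro U u _ ⟨⟩
        refine of_pullback_snd (g := g) (a := pullback.fst (f ∣_ W₀) e ≫ (f ⁻¹ᵁ W₀).ι) ?_ hP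
        rw [← hee]
        exact (IsPullback.of_hasPullback _ _).paste_horiz (isPullback_morphismRestrict f W₀).flip
    exact fun y hy => hmax W₀ h0 hy
  refine ⟨W, hW, hmax, key, fun Y' g hg W' hP' hmax' => le_antisymm ?_ ?_⟩
  · intro y hy
    refine key _ (W'.ι ≫ g) (Q.comp_mem _ _ (himm _ inferInstance) hg) ?_ ⟨⟨y, hy⟩, rfl⟩
    exact of_isPullback_snd ((isPullback_morphismRestrict (pullback.snd f g) W').flip.paste_horiz
      (IsPullback.of_hasPullback f g)) hP'
  · refine hmax' _ ?_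
    have hr : Q (g ∣_ W) := MorphismProperty.of_isPullback (isPullback_morphismRestrict g W).flip hg
    let Z : Bool → Scheme.{u} := fun b => if b then (g ⁻¹ᵁ W : Scheme.{u}) else W
    let m : ∀ b, Z b ⟶ W := fun b => match b with
      | true => g ∣_ W
      | false => 𝟙 _
    have hR : Presieve.ofArrows Z m ∈ Scheme.precoverage Q W := by
      rw [Scheme.ofArrows_mem_precoverage_iff]
      refine ⟨fun x => ⟨false, x, rfl⟩, fun b => ?_⟩
      cases b
      · exact himm _ (inferInstanceAs (IsOpenImmersion (𝟙 (W : Scheme.{u}))))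
      · exact hr
    have h := MorphismProperty.IsLocalAtTarget.pullbackSnd (P := P) hR (Presieve.ofArrows.mk true) hW
    have h1 := ((IsPullback.of_hasPullback (f ∣_ W) (g ∣_ W)).paste_horiz (isPullback_morphismRestrict f W).flip)
    rw [morphismRestrict_ι] at h1
    exact of_pullback_snd ((isPullback_morphismRestrict (pullback.snd f g) (g ⁻¹ᵁ W)).flip.paste_horiz
      (IsPullback.of_hasPullback f g)) (of_isPullback_snd h1 h)

end Groth.Agent.DescMisc
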